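import Cfsg.Agent.H3.Ch.Base

/-! Arithmetic of the simply primitive case for `t ≤ 2`. -/

set_option autoImplicit false

namespace Cfsg.Agent.H2.NumT

open H3.Ch Finset

def sm : List ℕ := [2, 3, 5, 7, 11, 13, 17, 19, 23, 29, 31, 37, 41, 43, 47, 53, 59, 61, 67, 71, 73, 79, 83, 89, 97,
  101, 103, 107, 109, 113, 127, 131, 137, 139]

/-- a test passed by all primes -/
def tp (p : ℕ) : Bool :=
  if p < 140 then sm.contains p else Nat.gcd p 10014646650599190067509233131649940057366334653200433090 == 1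

theorem tp_of {p : ℕ} (hp : p.Prime) : tp p = true := by
  unfold tp
  split_ifs with h
  · revert hp
    revert p
    decide +kernel
  · rw [beq_iff_eq]
    refine (Nat.Prime.coprime_iff_not_dvd hp).2 fun d => h ?_
    rw [show 10014646650599190067509233131649940057366334653200433090 = sm.prod by decide +kernel] at d
    obtain ⟨q, hq, d⟩ := (Prime.dvd_prod_iff hp.prime).1 d
    have : ∀ q ∈ sm, 0 < q ∧ q < 140 := by decide +kernel
    exact (Nat.le_of_dvd (this q hq).1 d).trans_lt (this q hq).2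

def g (hi μ p : ℕ) : ℕ := if tp p then hi / p / (p - 1) + hi / max (2 * p) ((μ + p - 1) / p * p) else 0

def W (g : ℕ → ℕ) : ℕ → ℕ → ℕ
  | 0, a => g a
  | d + 1, a => W g d a + W g d (a + 2 ^ d)

theorem W_eq (g : ℕ → ℕ) (d : ℕ) : ∀ a, W g d a = ∑ i ∈ range (2 ^ d), g (a + i) := by
  induction d with
  | zero => simp [W]
  | succ d ih =>
    intro a
    rw [W, ih, ih, pow_succ, mul_two, sum_range_add]
    simp only [add_assoc]

theorem U_le {m hi μ d : ℕ} (h : m ≤ hi) (hd : hi < 2 ^ d) : U m μ ≤ W (g hi μ) d 0 + 1 := by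
  rw [W_eq, U]
  simp only [zero_add]
  calc _ ≤ ∑ p ∈ (range (m + 1)).filter Nat.Prime, (g hi μ p + if p = m then 1 else 0) := by
        refine sum_le_sum fun p hp => ?_
        have pp := (mem_filter.1 hp).2
        rw [Up, g, if_pos (tp_of pp)]
        have h1 := (Nat.factorization_factorial_le_div_pred pp (m / p)).trans
          (Nat.div_le_div_right (c := p - 1) (Nat.div_le_div_right (c := p) h))
        have h2 := Nat.div_le_div_right (c := max (2 * p) ((μ + p - 1) / p * p)) h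
        generalize hi / max (2 * p) ((μ + p - 1) / p * p) = u at *
        split_ifs <;> omega
    _ ≤ _ := by
        rw [sum_add_distrib, sum_ite_eq']
        refine add_le_add (sum_le_sum_of_subset fun p hp => ?_) (by split_ifs <;> omega)
        have := mem_range.1 (mem_filter.1 hp).1
        exact mem_range.2 (by omega)

def ok (lo hi μ L : ℕ) : Bool :=
  hi < 2 ^ (L + 1) && 3 * (μ - 1) ^ 2 + 4 < 2 * lo && W (g hi μ) (L + 1) 0 + 2 * L + 5 ≤ (3 * lo + 1) / 2

def chk : ℕ → List (ℕ × ℕ × ℕ) → Bool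
  | lo, [] => 19156 ≤ lo
  | lo, (hi, μ, L) :: l => ok lo hi μ L && chk (hi + 1) l

theorem chk_of {n : ℕ} (hn : n < 19156) (l : List (ℕ × ℕ × ℕ)) : ∀ lo, lo ≤ n → chk lo l = true →
    ∃ lo hi μ L, lo ≤ n ∧ n ≤ hi ∧ ok lo hi μ L = true := by
  induction l with
  | nil =>
    intro lo h h'
    simp only [chk, decide_eq_true_eq] at h'
    omega
  | cons a l ih =>
    obtain ⟨hi, μ, L⟩ := a
    intro lo h h'
    rw [chk, Bool.and_eq_true] at h'
    by_cases c : n ≤ hi
    · exact ⟨lo, hi, μ, L, h, c, h'.1⟩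
    · exact ih _ (by omega) h'.2

theorem cert : chk 100 [(103, 9, 6), (107, 9, 6), (111, 9, 6), (115, 9, 6), (119, 9, 6), (123, 9, 6), (129, 10, 7),
    (135, 10, 7), (139, 10, 7), (145, 10, 7), (151, 10, 7), (157, 10, 7), (167, 11, 7), (179, 11, 7), (191, 11, 7),
    (205, 12, 7), (219, 12, 7), (239, 13, 7), (259, 13, 8), (279, 14, 8), (299, 14, 8), (329, 15, 8), (359, 15, 8),
    (399, 16, 8), (441, 17, 8), (485, 18, 8), (533, 18, 9), (587, 19, 9), (643, 20, 9), (711, 21, 9), (791, 22, 9),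
    (887, 23, 9), (995, 25, 9), (1111, 26, 10), (1255, 28, 10), (1417, 29, 10), (1601, 31, 10), (1801, 33, 10),
    (2045, 35, 10), (2327, 37, 11), (2665, 40, 11), (3055, 43, 11), (3501, 46, 11), (4015, 49, 11), (4613, 52, 12),
    (5303, 56, 12), (6119, 60, 12), (7071, 64, 12), (8181, 69, 12), (9457, 74, 13), (10979, 80, 13),
    (12755, 86, 13), (14881, 93, 13), (17399, 100, 14), (19200, 108, 14)] = true := by
  decide +kernel

theorem f_ge {n : ℕ} (hn : n ≠ 0) : (3 * n + 1) / 2 ≤ f n + Nat.log 2 n + 2 := by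
  have h1 : (Nat.digits 2 n).count 1 ≤ Nat.log 2 n + 1 :=
    List.count_le_length.trans (Nat.digits_len 2 n one_lt_two hn).le
  unfold f
  omega

theorem bab_of {m μ : ℕ} (h : 3 * (μ - 1) ^ 2 + 2 < 2 * m) : Bab m μ := fun k _ hk => by
  by_contra! c
  have := Nat.pow_le_pow_left (show k ≤ μ - 1 by omega) 2
  omega

theorem big (L : ℕ) (h : 15 ≤ L) : 3 * (8 * L + 1) ^ 2 + 4 < 2 * 2 ^ L := by
  induction L, h using Nat.le_induction with
  | base => norm_num
  | succ L h ih => rw [pow_succ 2 L]; nlinarith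

theorem t2 (n t x y z : ℕ) (hn : 100 ≤ n) (h1 : 1 ≤ t) (h2 : t ≤ 2) (hy : x ≤ Om (n.descFactorial (t - 1)) + y)
    (hz : x ≤ Nat.log 2 (n.descFactorial (t - 1)) + z) (Hy : ∀ μ, Bab (n + 1 - t) μ → y ≤ U (n + 1 - t) μ)
    (Hz : ∀ μ, 4 ≤ μ → Bab (n + 1 - t) μ → 2 * z + μ ≤ 4 * Nat.log 2 (n + 1 - t) + 3 * (n - t)) : x + 2 ≤ f n := by
  have F := f_ge (n := n) (by omega)
  by_cases c : n < 19156
  · obtain ⟨lo, hi, μ, L, a1, a2, a3⟩ := chk_of c _ _ hn cert
    simp only [ok, Bool.and_eq_true, decide_eq_true_eq] at a3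
    obtain ⟨⟨a3, a4⟩, a5⟩ := a3
    have b1 := (Hy μ (bab_of (by omega))).trans (U_le (by omega) a3)
    have b2 : Nat.log 2 n < L + 1 := Nat.log_lt_of_lt_pow (by omega) (by omega)
    have b3 : Om (n.descFactorial (t - 1)) ≤ Nat.log 2 n := by
      obtain rfl | rfl : t = 1 ∨ t = 2 := by omega
      · simp [Om]
      · rw [show 2 - 1 = 1 from rfl, Nat.descFactorial_one]
        refine Nat.le_log_of_pow_le one_lt_two ?_
        conv_rhs => rw [← Nat.prod_primeFactorsList (show n ≠ 0 by omega)]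
        exact List.pow_card_le_prod _ 2 fun p hp => (Nat.prime_of_mem_primeFactorsList hp).two_le
    omega
  · have b0 : 14 ≤ Nat.log 2 n := Nat.le_log_of_pow_le one_lt_two (by omega)
    have b1 : 3 * (8 * Nat.log 2 n + 2 - 1) ^ 2 + 4 < 2 * n := by
      rcases b0.eq_or_lt with e | e
      · rw [← e]
        omega
      · have := big _ e
        have := Nat.pow_log_le_self 2 (show n ≠ 0 by omega)
        rw [show 8 * Nat.log 2 n + 2 - 1 = 8 * Nat.log 2 n + 1 from rfl]
        omega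
    have b2 := Hz (8 * Nat.log 2 n + 2) (by omega) (bab_of (by omega))
    have b3 : Nat.log 2 (n + 1 - t) ≤ Nat.log 2 n := Nat.log_mono_right (by omega)
    obtain rfl | rfl : t = 1 ∨ t = 2 := by omega
    · simp only [Nat.sub_self, Nat.descFactorial_zero, Nat.log_one_right] at hz
      omega
    · rw [show 2 - 1 = 1 from rfl, Nat.descFactorial_one] at hz
      omega

end Cfsg.Agent.H2.NumT
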