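import Cfsg.Agent.H2.Perfect
import Cfsg.Agent.H2.NearField

/-! Quaternion algebras spanned by irreducible groups. -/

set_option autoImplicit false

namespace Cfsg.Agent.H2

open Subgroup

section

variable {G V : Type*} [Group G] [AddCommGroup V] [DistribMulAction G V]

theorem exists_card_eq_pow [Finite V] [Nontrivial V] (R : Subring (AddMonoid.End V))
    (h : ∀ r ∈ R, r ≠ 0 → Function.Injective r) : ∃ n, Nat.card V = Nat.card R ^ n := by
  letI := (isField_of_injective R h).toField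
  exact ⟨_, Module.natCard_eq_pow_finrank (K := R) (V := V)⟩

theorem mem_of_card_eq [Finite V] [Nontrivial V] (R : Subring (AddMonoid.End V))
    (h : ∀ r ∈ R, r ≠ 0 → Function.Injective r) (hc : Nat.card V ≤ Nat.card R)
    {x : AddMonoid.End V} (hx : ∀ r ∈ R, x * r = r * x) : x ∈ R := by
  obtain ⟨v, hv⟩ := exists_ne (0 : V)
  haveI := finite_end (V := V)
  have hb : Function.Bijective (fun r : R => r.1 v) := by
    refine Function.Injective.bijective_of_nat_card_le ?_ hc
    intro r s e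
    by_contra hne
    have := h (r - s) (R.sub_mem r.2 s.2) (fun e => hne (Subtype.ext (sub_eq_zero.1 e)))
    refine hv (this ?_)
    rw [map_zero]
    exact sub_eq_zero.2 e
  obtain ⟨r, hr⟩ := hb.2 (x v)
  have : x = r := by
    apply AddMonoidHom.ext
    intro w
    obtain ⟨s, rfl⟩ := hb.2 w
    have hr' : r.1 v = x v := hr
    calc x (s.1 v) = (x * s.1) v := rfl
      _ = (s.1 * r.1) v := by rw [hx _ s.2, end_mul_apply, end_mul_apply, hr']
      _ = _ := by rw [comm_of_injective R h _ s.2 _ r.2]; rfl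
  rw [this]; exact r.2

theorem card_eq_sq [Finite V] [Nontrivial V] (hf : Function.Injective (rho G V)) {N : Subgroup G}
    (hN : Irred N V) {a b : G} (ha : a ∈ N) (hb : b ∈ N) (hab : a * b ≠ b * a)
    (hgen : ∀ L : Subgroup G, a ∈ L → b ∈ L → N ≤ L)
    {α₀ α₁ β₀ β₁ γ₀ γ₁ γ₂ γ₃ : comRing N V}
    (haa : rho G V a * rho G V a = α₀ + α₁ * rho G V a)
    (hbb : rho G V b * rho G V b = β₀ + β₁ * rho G V b)
    (hba : rho G V b * rho G V a = γ₀ + γ₁ * rho G V a + γ₂ * rho G V b +
      γ₃ * (rho G V a * rho G V b)) :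
    Nat.card V = Nat.card (comRing N V) ^ 2 := by
  haveI := finite_end (V := V)
  haveI : Finite G := Finite.of_injective _ hf
  set E := comRing N V
  set x := rho G V a
  set y := rho G V b
  have hE := hN.injective_of_mem_comRing
  have hx : ∀ e : E, x * e = e * x := fun e => mem_comRing.1 e.2 a ha
  have hy : ∀ e : E, y * e = e * y := fun e => mem_comRing.1 e.2 b hb
  let f : E × E × E × E → AddMonoid.End V :=
    fun p => p.1 + p.2.1 * x + p.2.2.1 * y + p.2.2.2 * (x * y)
  let S : Submodule E (AddMonoid.End V) := Submodule.span E {1, x, y, x * y}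
  have hS : ∀ s ∈ S, s ∈ Set.range f := by
    intro s hs
    obtain ⟨e₀, s₁, hs₁, rfl⟩ := Submodule.mem_span_insert.1 hs
    obtain ⟨e₁, s₂, hs₂, rfl⟩ := Submodule.mem_span_insert.1 hs₁
    obtain ⟨e₂, s₃, hs₃, rfl⟩ := Submodule.mem_span_insert.1 hs₂
    obtain ⟨e₃, rfl⟩ := Submodule.mem_span_singleton.1 hs₃
    refine ⟨(e₀, e₁, e₂, e₃), ?_⟩
    show _ = e₀.1 * 1 + (e₁.1 * x + (e₂.1 * y + e₃.1 * (x * y)))
    simp only [f, mul_one, add_assoc]
  have m1 : (1 : AddMonoid.End V) ∈ S := Submodule.subset_span (by simp)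
  have mx : x ∈ S := Submodule.subset_span (by simp)
  have my : y ∈ S := Submodule.subset_span (by simp)
  have mxy : x * y ∈ S := Submodule.subset_span (by simp)
  have me : ∀ (e : E), ∀ s ∈ S, e * s ∈ S := fun e s hs => S.smul_mem e hs
  have me1 : ∀ (e : E), (e : AddMonoid.End V) ∈ S := fun e => by simpa using me e 1 m1
  have key : ∀ z : AddMonoid.End V, (∀ e : E, z * e = e * z) → z * 1 ∈ S → z * x ∈ S → z * y ∈ S →
      z * (x * y) ∈ S → ∀ s ∈ S, z * s ∈ S := by
    intro z hz h1 h2 h3 h4 s hs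
    induction hs using Submodule.span_induction with
    | mem s hs =>
      simp only [Set.mem_insert_iff, Set.mem_singleton_iff] at hs
      rcases hs with rfl | rfl | rfl | rfl <;> assumption
    | zero => rw [mul_zero]; exact S.zero_mem
    | add s t _ _ hs ht => rw [mul_add]; exact S.add_mem hs ht
    | smul e s _ hs =>
      show z * (e.1 * s) ∈ S
      rw [← mul_assoc, hz, mul_assoc]
      exact me e _ hs
  have kx : ∀ s ∈ S, x * s ∈ S := key x hx (by rwa [mul_one])
    (by rw [haa]; exact S.add_mem (me1 _) (me _ _ mx)) mxy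
    (by rw [← mul_assoc, haa, add_mul, mul_assoc]; exact S.add_mem (me _ _ my) (me _ _ mxy))
  have myy : y * y ∈ S := by rw [hbb]; exact S.add_mem (me1 _) (me _ _ my)
  have ky : ∀ s ∈ S, y * s ∈ S := key y hy (by rwa [mul_one])
    (by rw [hba]; exact S.add_mem (S.add_mem (S.add_mem (me1 _) (me _ _ mx)) (me _ _ my)) (me _ _ mxy))
    myy (by
      rw [← mul_assoc, hba]
      simp only [add_mul, mul_assoc]
      exact S.add_mem (S.add_mem (S.add_mem (me _ _ my) (me _ _ mxy)) (me _ _ myy))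
        (me _ _ (kx _ myy)))
  let R : Subring (AddMonoid.End V) :=
    { carrier := {r | ∀ s ∈ S, r * s ∈ S}
      mul_mem' := fun {r t} hr ht s hs => by rw [mul_assoc]; exact hr _ (ht s hs)
      one_mem' := fun s hs => by rwa [one_mul]
      add_mem' := fun {r t} hr ht s hs => by rw [add_mul]; exact S.add_mem (hr s hs) (ht s hs)
      zero_mem' := fun s hs => by rw [zero_mul]; exact S.zero_mem
      neg_mem' := fun {r} hr s hs => by rw [neg_mul]; exact S.neg_mem (hr s hs) }
  let L : Subgroup G :=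
    { carrier := {g | rho G V g ∈ R}
      mul_mem' := fun {g h} hg hh => by
        simp only [Set.mem_setOf_eq, map_mul] at *; exact R.mul_mem hg hh
      one_mem' := by simp only [Set.mem_setOf_eq, map_one]; exact R.one_mem
      inv_mem' := fun {g} hg => by
        simp only [Set.mem_setOf_eq] at *
        have : g⁻¹ = g ^ (orderOf g - 1) := by
          rw [inv_eq_iff_mul_eq_one, ← pow_succ', Nat.sub_add_cancel (orderOf_pos g),
            pow_orderOf_eq_one]
        rw [this, map_pow]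
        exact R.pow_mem hg _ }
  have hxy : x * y ≠ y * x := fun h => hab (hf (by rw [map_mul, map_mul]; exact h))
  have h1 := sq_card_le hN R (fun n hn => hgen L kx ky hn) (fun h => hxy (h x kx y ky))
  have h2 : Nat.card R ≤ Nat.card E ^ 4 := by
    calc Nat.card R ≤ Nat.card (Set.range f) :=
          Nat.card_le_card_of_injective (fun r : R => (⟨r.1, hS _ (by simpa using r.2 1 m1)⟩ :
            Set.range f)) (fun r s e => Subtype.ext (congrArg (fun t : Set.range f => t.1) e))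
      _ ≤ Nat.card (E × E × E × E) := Finite.card_range_le f
      _ = _ := by simp only [Nat.card_prod]; ring
  obtain ⟨n, hn⟩ := exists_card_eq_pow E hE
  have hq : 1 < Nat.card E := by
    letI := (isField_of_injective E hE).toField
    exact Finite.one_lt_card
  have h3 : n ≤ 2 := by
    rw [hn, ← pow_mul] at h1
    have := (Nat.pow_le_pow_iff_right hq).1 (h1.trans h2)
    omega
  have h4 : ¬ n ≤ 1 := by
    intro h
    have h5 : Nat.card V ≤ Nat.card E := by
      rw [hn]; simpa using Nat.pow_le_pow_right hq.le h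
    exact hxy (comm_of_injective E hE _ (mem_of_card_eq E hE h5 fun r hr => hx ⟨r, hr⟩) _
      (mem_of_card_eq E hE h5 fun r hr => hy ⟨r, hr⟩))
  rw [hn, show n = 2 by omega]

end

theorem dvd_ncard_of_index {G β : Type*} [Group G] [MulAction G β] (s : Set β) (hs : s.Finite)
    (hinv : ∀ (g : G), ∀ x ∈ s, g • x ∈ s) {m : ℕ}
    (hm : ∀ x ∈ s, (MulAction.stabilizer G x).index = m) : m ∣ s.ncard := by
  let S : SubMulAction G β := ⟨s, fun g {x} hx => hinv g x hx⟩
  haveI : Finite S := hs.to_subtype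
  have h1 : s.ncard = Nat.card S := rfl
  haveI := Fintype.ofFinite (MulAction.orbitRel.Quotient G S)
  rw [h1, Nat.card_congr (MulAction.selfEquivSigmaOrbits G S), Nat.card_sigma]
  refine Finset.dvd_sum fun q _ => ?_
  rw [Nat.card_coe_set_eq, ← MulAction.index_stabilizer, SubMulAction.stabilizer_of_subMul,
    hm _ q.out.2]

/-- the quaternion group of order eight -/
abbrev Q8 := QuaternionGroup 2

theorem exists_hom_Q8 {G : Type*} [Group G] {x y : G} (hx4 : x ^ 4 = 1) (hx2 : x ^ 2 ≠ 1)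
    (hy : y * y = x ^ 2) (hyx : y * x * y⁻¹ = x⁻¹) :
    ∃ ψ : Q8 →* G, Function.Injective ψ ∧ ψ (QuaternionGroup.a 1) = x ∧
      ψ (QuaternionGroup.xa 0) = y := by
  have ho : orderOf x = 4 := orderOf_eq_prime_pow (p := 2) (n := 1) hx2 hx4
  let f : ZMod (2 * 2) → G := fun i => x ^ i.val
  have fadd : ∀ i j, f (i + j) = f i * f j := by
    intro i j
    simp only [f]
    rw [ZMod.val_add, ← pow_add, ← pow_mod_orderOf x (i.val + j.val), ho]
  have f0 : f 0 = 1 := by simp [f]
  have fneg : ∀ i, f (-i) = (f i)⁻¹ := fun i => by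
    rw [eq_inv_iff_mul_eq_one, ← fadd, neg_add_cancel, f0]
  have fy : ∀ i, f i * y = y * f (-i) := by
    intro i
    have h1 : y * f (-i) * y⁻¹ = f i := by
      rw [fneg]
      simp only [f]
      rw [← inv_pow, ← conj_pow, ← inv_inv (y * x⁻¹ * y⁻¹), show (y * x⁻¹ * y⁻¹)⁻¹ = y * x * y⁻¹ by group,
        hyx, inv_inv]
    rw [← h1]; group
  have f2 : f 2 = y * y := by rw [hy]; rfl
  let F : Q8 → G := fun q => match q with
    | QuaternionGroup.a i => f i
    | QuaternionGroup.xa i => y * f i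
  have Fmul : ∀ p q, F (p * q) = F p * F q := by
    rintro (i | i) (j | j)
    · exact fadd i j
    · show y * f (j - i) = f i * (y * f j)
      rw [← mul_assoc, fy, mul_assoc, ← fadd]; congr 2; ring
    · show y * f (i + j) = y * f i * f j
      rw [fadd, mul_assoc]
    · show f (((2 : ℕ) : ZMod (2 * 2)) + j - i) = y * f i * (y * f j)
      rw [mul_assoc, ← mul_assoc (f i), fy, mul_assoc, ← fadd, ← mul_assoc, ← f2, ← fadd]
      congr 1; push_cast; ring
  let ψ : Q8 →* G := MonoidHom.mk' F Fmul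
  have e1 : ψ (QuaternionGroup.a 1) = x := pow_one x
  refine ⟨ψ, ?_, e1, by show y * f 0 = y; rw [f0, mul_one]⟩
  rw [injective_iff_map_eq_one]
  intro g hg
  have : ∀ g : Q8, g = 1 ∨ g = QuaternionGroup.a 1 ^ 2 ∨ g ^ 2 = QuaternionGroup.a 1 ^ 2 := by decide
  rcases this g with h | h | h
  · exact h
  · rw [h, map_pow, e1] at hg; exact absurd hg hx2
  · have := congrArg ψ h
    rw [map_pow, map_pow, hg, e1, one_pow] at this
    exact absurd this.symm hx2

theorem Q8_gen : ∀ a b : Q8, a * b ≠ b * a → ∀ g : Q8,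
    g ∈ [1, a, a * a, a⁻¹, b, a * b, a * a * b, a⁻¹ * b] := by decide

theorem Q8_range_le {G : Type*} [Group G] (ψ : Q8 →* G) {a b : G} (ha : a ∈ ψ.range)
    (hb : b ∈ ψ.range) (hab : a * b ≠ b * a) (L : Subgroup G) (haL : a ∈ L) (hbL : b ∈ L) :
    ψ.range ≤ L := by
  obtain ⟨a, rfl⟩ := ha
  obtain ⟨b, rfl⟩ := hb
  rintro _ ⟨g, rfl⟩
  have := Q8_gen a b (fun h => hab (by rw [← map_mul, h, map_mul])) g
  simp only [List.mem_cons, List.not_mem_nil, or_false] at this
  rcases this with h | h | h | h | h | h | h | h <;> rw [h] <;>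
    simp [mul_mem, inv_mem, haL, hbL]

theorem index_centralizer_Q8 {G : Type*} [Group G] (ψ : Q8 →* G) (hψ : Function.Injective ψ)
    [hn : ψ.range.Normal] : (centralizer (ψ.range : Set G)).index ∣ 24 := by
  classical
  letI : MulAction G (G × G) :=
    { smul := fun g p => (g * p.1 * g⁻¹, g * p.2 * g⁻¹)
      one_smul := fun p => Prod.ext (by show 1 * p.1 * 1⁻¹ = p.1; group)
        (by show 1 * p.2 * 1⁻¹ = p.2; group)
      mul_smul := fun g h p => Prod.ext
        (by show g * h * p.1 * (g * h)⁻¹ = g * (h * p.1 * h⁻¹) * g⁻¹; group)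
        (by show g * h * p.2 * (g * h)⁻¹ = g * (h * p.2 * h⁻¹) * g⁻¹; group) }
  have hs : {p : G × G | p.1 ∈ ψ.range ∧ p.2 ∈ ψ.range ∧ p.1 * p.2 ≠ p.2 * p.1} =
      Prod.map ψ ψ '' (Finset.univ.filter (fun p : Q8 × Q8 => p.1 * p.2 ≠ p.2 * p.1)) := by
    ext ⟨a, b⟩
    simp only [Set.mem_setOf_eq, Finset.coe_filter, Finset.mem_univ, true_and, Set.mem_image]
    constructor
    · rintro ⟨⟨a, rfl⟩, ⟨b, rfl⟩, h⟩
      exact ⟨(a, b), fun e => h (by rw [← map_mul, ← map_mul]; exact congrArg ψ e), rfl⟩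
    · rintro ⟨⟨a', b'⟩, h, e⟩
      obtain ⟨rfl, rfl⟩ := Prod.ext_iff.1 e
      exact ⟨⟨a', rfl⟩, ⟨b', rfl⟩, fun e => h (hψ (by rw [map_mul, map_mul]; exact e))⟩
  have h24 : {p : G × G | p.1 ∈ ψ.range ∧ p.2 ∈ ψ.range ∧ p.1 * p.2 ≠ p.2 * p.1}.ncard = 24 := by
    rw [hs, Set.ncard_image_of_injective _ (hψ.prodMap hψ), Set.ncard_coe_finset]
    decide
  rw [← h24]
  refine dvd_ncard_of_index (G := G) _ (by rw [hs]; exact Set.toFinite _) ?_ ?_
  · rintro g ⟨a, b⟩ ⟨ha, hb, h⟩
    refine ⟨hn.conj_mem a ha g, hn.conj_mem b hb g, fun e => h ?_⟩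
    have e' : g * a * g⁻¹ * (g * b * g⁻¹) = g * b * g⁻¹ * (g * a * g⁻¹) := e
    calc a * b = g⁻¹ * (g * a * g⁻¹ * (g * b * g⁻¹)) * g := by group
      _ = _ := by rw [e']; group
  · rintro ⟨a, b⟩ ⟨ha, hb, h⟩
    congr 1
    ext g
    rw [MulAction.mem_stabilizer_iff]
    constructor
    · intro e
      obtain ⟨e1, e2⟩ := Prod.ext_iff.1 e
      have e1' : g * a * g⁻¹ = a := e1
      have e2' : g * b * g⁻¹ = b := e2
      intro x hx
      exact mem_centralizer_singleton_iff.1 (Q8_range_le ψ ha hb h (centralizer {g})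
        (mem_centralizer_singleton_iff.2 (mul_inv_eq_iff_eq_mul.1 e1').symm)
        (mem_centralizer_singleton_iff.2 (mul_inv_eq_iff_eq_mul.1 e2').symm) hx)
    · intro e
      refine Prod.ext ?_ ?_
      · show g * a * g⁻¹ = a
        rw [← e a ha]; group
      · show g * b * g⁻¹ = b
        rw [← e b hb]; group

open scoped commutatorElement in
theorem minimal_nonabelian {G : Type*} [Group G] [Finite G] (hN : ∀ p : ℕ, p.Prime → NoPP G p)
    (hU : ∀ x y : G, x * x = 1 → y * y = 1 → x ≠ 1 → y ≠ 1 → x = y)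
    (A : Subgroup G) [A.Normal] (hAc : IsMulCommutative A)
    (hAmax : ∀ B : Subgroup G, B.Normal → IsMulCommutative B → A ≤ B → B = A) (N : Subgroup G)
    [hNn : N.Normal] (hNle : N ≤ centralizer (A : Set G)) (hNna : ¬ IsMulCommutative N)
    (hNmin : ∀ M : Subgroup G, M.Normal → M ≤ N → ¬ IsMulCommutative M → M = N) :
    (∃ ψ : Q8 →* G, Function.Injective ψ ∧ ψ.range = N) ∨ commutator N = ⊤ := by
  by_cases hc : IsMulCommutative (⁅N, N⁆ : Subgroup G)
  swap
  · right
    have := hNmin _ inferInstance (commutator_le_left N N) hc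
    apply map_injective N.subtype_injective
    rw [map_subtype_commutator, this, ← MonoidHom.range_eq_map, range_subtype]
  left
  have hc' := (isMulCommutative_iff' _).1 hc
  have hA' := (isMulCommutative_iff' _).1 hAc
  have h1 : ⁅N, N⁆ ≤ A := by
    rw [← hAmax (⁅N, N⁆ ⊔ A) inferInstance ?_ le_sup_right]
    · exact le_sup_left
    · rw [← le_centralizer_iff_isMulCommutative, sup_le_iff]
      have e1 : ⁅N, N⁆ ≤ centralizer (A : Set G) := (commutator_le_left N N).trans hNle
      constructor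
      · rw [le_centralizer_iff, sup_le_iff]
        exact ⟨le_centralizer_iff_isMulCommutative.2 hc, le_centralizer_iff.1 e1⟩
      · rw [le_centralizer_iff, sup_le_iff]
        exact ⟨e1, le_centralizer_iff_isMulCommutative.2 hAc⟩
  have h2 : ∀ x ∈ N, ∀ y ∈ N, ∀ w ∈ N, w * ⁅x, y⁆ = ⁅x, y⁆ * w := fun x hx y hy w hw =>
    (hNle hw _ (h1 (commutator_mem_commutator hx hy))).symm
  haveI : Group.IsNilpotent N := by
    refine Subgroup.isNilpotent_of_ker_le_center Abelianization.of ?_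
    rw [Abelianization.ker_of, commutator_def, commutator_le]
    intro x _ y _
    rw [mem_center_iff]
    intro w
    exact Subtype.ext (h2 x x.2 y y.2 w w.2)
  obtain ⟨p, hp, P, hP⟩ : ∃ (p : ℕ) (_ : Fact p.Prime) (P : Sylow p N), ¬ IsMulCommutative P := by
    by_contra h
    push Not at h
    apply hNna
    obtain ⟨e⟩ := ((Group.isNilpotent_of_finite_tfae (G := N)).out 0 4).1 ‹_›
    refine ⟨⟨fun a b => e.symm.injective ?_⟩⟩
    rw [map_mul, map_mul]
    funext p P
    haveI := Fact.mk (Nat.prime_of_mem_primeFactors p.2)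
    exact (h p this P).is_comm.comm _ _
  have hPn' : ∀ (p : ℕ) (_ : Fact p.Prime) (P : Sylow p N), (P : Subgroup N).Normal :=
    ((Group.isNilpotent_of_finite_tfae (G := N)).out 0 3).1 ‹_›
  have hPn := hPn' p hp P
  haveI := Sylow.characteristic_of_normal P hPn
  have h3 : (P : Subgroup N).map N.subtype = N := by
    refine hNmin _ inferInstance (map_subtype_le _) fun h => hP ?_
    refine ⟨⟨fun a b => Subtype.ext (Subtype.ext ?_)⟩⟩
    exact (isMulCommutative_iff' _).1 h _ ⟨_, a.2, rfl⟩ _ ⟨_, b.2, rfl⟩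
  have h4 : IsPGroup p N := h3 ▸ P.isPGroup'.map N.subtype
  obtain ⟨⟨x, hxN⟩, hx1, hx2⟩ := pgroup_structure h4 ((hN p hp.out).subgroup N)
  have hmem : ∀ y : N, y ∈ zpowers (⟨x, hxN⟩ : N) ↔ (y : G) ∈ zpowers x := by
    intro y
    constructor
    · rintro ⟨k, rfl⟩; exact ⟨k, rfl⟩
    · rintro ⟨k, hk⟩; exact ⟨k, Subtype.ext hk⟩
  have hC : ∀ y ∈ N, y * x = x * y → y ∈ zpowers x := fun y hy h =>
    (hmem ⟨y, hy⟩).1 (hx1 _ (Subtype.ext h))
  have hI : ∀ y ∈ N, y ∉ zpowers x → y * x * y⁻¹ = x⁻¹ := fun y hy h =>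
    congrArg Subtype.val (hx2 ⟨y, hy⟩ (fun h' => h ((hmem _).1 h'))).2
  obtain ⟨y, hyN, hy⟩ : ∃ y ∈ N, y ∉ zpowers x := by
    by_contra h
    push Not at h
    refine hNna ((isMulCommutative_iff' _).2 fun a ha b hb => ?_)
    obtain ⟨k, rfl⟩ := h a ha
    obtain ⟨l, rfl⟩ := h b hb
    exact (Commute.refl x).zpow_zpow k l
  have hyx := hI y hyN hy
  have hxx : x ^ 2 ≠ 1 := by
    intro h
    apply hy
    apply hC _ hyN
    rw [← mul_inv_eq_iff_eq_mul, hyx, inv_eq_iff_mul_eq_one, ← pow_two, h]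
  have hx4 : x ^ 4 = 1 := by
    have e1 := h2 y hyN x hxN y hyN
    rw [commutatorElement_def, hyx, ← mul_inv_eq_iff_eq_mul] at e1
    have e2 : y * (x⁻¹ * x⁻¹) * y⁻¹ = (y * x * y⁻¹)⁻¹ * (y * x * y⁻¹)⁻¹ := by group
    rw [e2, hyx, inv_inv] at e1
    calc x ^ 4 = (x * x) * (x * x) := by simp [pow_succ, mul_assoc]
      _ = 1 := by nth_rewrite 1 [e1]; group
  have hyy : y * y = x ^ 2 := by
    have hM : y * y ∈ zpowers x := by
      apply hC _ (mul_mem hyN hyN)
      rw [← mul_inv_eq_iff_eq_mul]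
      calc y * y * x * (y * y)⁻¹ = y * (y * x * y⁻¹) * y⁻¹ := by group
        _ = y * x⁻¹ * y⁻¹ := by rw [hyx]
        _ = (y * x * y⁻¹)⁻¹ := by group
        _ = x := by rw [hyx, inv_inv]
    have hz : x ^ 2 * x ^ 2 = 1 := by rw [← pow_add, hx4]
    apply hU _ _ _ hz _ hxx
    · obtain ⟨k, hk⟩ := hM
      simp only at hk
      have e : y * x ^ k * y⁻¹ = (x ^ k)⁻¹ := by rw [← conj_zpow, hyx, inv_zpow]
      rw [hk, show y * (y * y) * y⁻¹ = y * y by group] at e
      exact mul_eq_one_iff_eq_inv.2 e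
    · intro h1
      by_cases hy1 : y = 1
      · exact hy (hy1 ▸ one_mem _)
      · exact hy (hU _ _ h1 hz hy1 hxx ▸ pow_mem (mem_zpowers x) 2)
  obtain ⟨ψ, hψ, e1, e2⟩ := exists_hom_Q8 hx4 hxx hyy hyx
  have hxr : x ∈ ψ.range := ⟨_, e1⟩
  have hyr : y ∈ ψ.range := ⟨_, e2⟩
  refine ⟨ψ, hψ, le_antisymm (Q8_range_le ψ hxr hyr (fun h => hy (hC _ hyN h.symm)) N hxN hyN) ?_⟩
  intro w hw
  by_cases hwx : w ∈ zpowers x
  · exact zpowers_le.2 hxr hwx
  · have : y * w ∈ zpowers x := by
      apply hC _ (mul_mem hyN hw)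
      rw [← mul_inv_eq_iff_eq_mul]
      calc y * w * x * (y * w)⁻¹ = y * (w * x * w⁻¹) * y⁻¹ := by group
        _ = (y * x * y⁻¹)⁻¹ := by rw [hI w hw hwx]; group
        _ = x := by rw [hyx, inv_inv]
    exact (mul_mem_cancel_left hyr).1 (zpowers_le.2 hxr this)

end Cfsg.Agent.H2
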