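import Cfsg.Agent.H2.NC

/-! A presentation-like property of `SL(2,5)`: three elements of order three whose pairwise
products square to `-1` in a ring generate a copy of `SL(2,5)`. -/

set_option autoImplicit false

namespace Cfsg.Agent.H2.SL

open NC

/-- `SL(2,5)` -/
abbrev SL25 := Matrix.SpecialLinearGroup (Fin 2) (ZMod 5)

/-- first generator -/
def gC : SL25 := ⟨!![0, 1; 4, 4], by decide⟩
/-- second generator -/
def gD : SL25 := ⟨!![2, 1; 3, 2], by decide⟩
/-- third generator -/
def gE : SL25 := ⟨!![4, 3; 3, 0], by decide⟩

/-- coefficient table -/
def tabV : ℕ := 0x4100000000000000000000045450000000000000000000066a6000000000000000000005559a55500000000000000000000000051510000000000000000000000005665000099890000000000000000000000006555000004150000000000000000000000000000566a00000000a595000000000000000000000000000055140000000048450000000011510000000000000000000000000000000065950000000000005519000000000000545100000000000001100000000000009a9a0000000000000000994900000000000000001451000000000000000001150000000000000000a6a60000000000000000555400000000000000001455000000000000000000000000000045440000000051150000000000000000000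000000000aa9a0000000055610000000000000000000051500000000000000000000011159a590000000000000000000055660000000000000000000058850000000000005545000000000000a66500000000000000000000000000000000156600000000000048440000000000005155000000000000000000000000a66a000059960000000000000000000000005450000011550000000000000000000000004504000000000000000049550000000000000000545500000000000000005585000000000000000051100000000000000000666a0000000000000000000099550000565a00000000000000000000000051140000000000000000000000000440000065a60000000000006266000000000000000000000000000000009544000000000000044500000000000055650000000000005955000000000000000000005544000000000000000000001051000000000000000000009995595a00000000000000000000522500000000000000000000000000000010000000005995000000006566000000000000000000000000000096550000000055490000000000000000599a0000000000000000552500000000000000005655000000000000000061550000000000000000444000000000000000000000a99a000000000000565900000000000055910000000000000000000000000000000045150000000000001010000000006265000000000000000000000000000055960000000005150000000054400000000000000000000000000000995900004555000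0000000000000000000001121000000000000000000000000544500005959000000000000000000000000a695000000000000000000005551440400000000000000000000656500000000000000000000a69a000000000000000000000555000000000000000004040000000000000000a9950000000000000000965900000000000000001161000000000000000055560000000000000000000000000000000000000000000000000000000000000000451499851555555a6161000000000000000000000000000000000000000055950000a65956665855000000000000000000000000000000000000000000000000000000000000000000000000000000000000000000000000000054440451aaaa55155255000000000000000000000000000000000000000055509555112565964949000000000000000000000000000000000000000000000000000000000000000000000000000000000000000000000000000000000000000000000000000000000000000000000000000000000000000000000000000000000000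
/-- depth table -/
def tabD : ℕ := 0x400000300000500000230000003000000404000000405000000020050000000100500600000000400040003000400050000600003000050000500004000050000000400300000003004000004000006400000500000500030004000000005000700020000005030000004040000004000050000200004000040000500000603000000400000040200050000000040005000200040000010000050000043000005000000050040030000000300400002000040000400005000050000050004000400000000300040070000000500300400000004020000006000000304000000400000350000040000050000050000400004000050000400000000000000000000046455000000000023435000000000000000000000000045535000000000015435000000000000000000000000000000000000000000000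

/-- index of a matrix -/
def idx (g : SL25) : ℕ := (g 0 0).val + 5 * (g 0 1).val + 25 * (g 1 0).val + 125 * (g 1 1).val

/-- coefficient -/
def co (g : SL25) (j : ℕ) : E := E.k ((tabV >>> (2 * (8 * idx g + j))) % 4) - 1

/-- the algebra element attached to a matrix -/
def V (g : SL25) : E :=
  co g 0 + co g 1 * E.v 0 + co g 2 * E.v 1 + co g 3 * E.v 2 + co g 4 * (E.v 0 * E.v 1) +
    co g 5 * (E.v 0 * E.v 2) + co g 6 * (E.v 1 * E.v 2) + co g 7 * (E.v 0 * (E.v 1 * E.v 2))

/-- depth -/
def dep (g : SL25) : ℕ := (tabD >>> (4 * idx g)) % 16

/-- the relations -/
def R3 : List (ℕ × ℕ × E) :=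
  [(0, 0, -1 - E.v 0), (1, 1, -1 - E.v 1), (2, 2, -1 - E.v 2),
    (1, 0, -1 - E.v 0 - E.v 1 - E.v 0 * E.v 1), (2, 0, -1 - E.v 0 - E.v 2 - E.v 0 * E.v 2),
    (2, 1, -1 - E.v 1 - E.v 2 - E.v 1 * E.v 2)]

theorem stepC : ∀ g : SL25, check R3 (E.v 0 * V g) (V (gC * g)) = true := by decide +kernel
theorem stepD : ∀ g : SL25, check R3 (E.v 1 * V g) (V (gD * g)) = true := by decide +kernel
theorem stepE : ∀ g : SL25, check R3 (E.v 2 * V g) (V (gE * g)) = true := by decide +kernel
theorem V_one : check R3 (V 1) 1 = true := by decide +kernel
theorem sq_CD : check R3 (E.v 0 * E.v 1 * (E.v 0 * E.v 1)) (-1) = true := by decide +kernel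
theorem dep_lt : ∀ g : SL25, g = 1 ∨ dep (gC * g) < dep g ∨ dep (gD * g) < dep g ∨
    dep (gE * g) < dep g := by decide +kernel
theorem ker_cert : ∀ g : SL25, g = 1 ∨
    ∃ w ∈ [g, g * gC * g⁻¹ * gC⁻¹, g * gD * g⁻¹ * gD⁻¹, g * gE * g⁻¹ * gE⁻¹],
      ∃ k ∈ [1, 2, 3, 5], w ^ k = (gC * gD) ^ 2 := by decide +kernel
theorem card_SL25 : Nat.card SL25 = 120 := by
  rw [Nat.card_eq_fintype_card]; decide +kernel
theorem center_cert : ∀ g : SL25, g * gC = gC * g → g * gD = gD * g →
    g = 1 ∨ g = (gC * gD) ^ 2 := by decide +kernel
theorem card_order_three : (Finset.univ.filter (fun g : SL25 => g ^ 3 = 1 ∧ g ≠ 1)).card = 20 := by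
  decide +kernel

theorem gen_induction {P : SL25 → Prop} (h1 : P 1) (hC : ∀ g, P (gC * g) → P g)
    (hD : ∀ g, P (gD * g) → P g) (hE : ∀ g, P (gE * g) → P g) (g : SL25) : P g := by
  induction h : dep g using Nat.strong_induction_on generalizing g with
  | _ n ih =>
    rcases dep_lt g with rfl | h' | h' | h'
    · exact h1
    · exact hC g (ih _ (h ▸ h') _ rfl)
    · exact hD g (ih _ (h ▸ h') _ rfl)
    · exact hE g (ih _ (h ▸ h') _ rfl)

theorem exists_hom {G A : Type*} [Group G] [Ring A] (h2 : (2 : A) ≠ 0) (ρ : G →* A)
    (hinj : Function.Injective ρ) {c d e : G} (hR : Holds (env [ρ c, ρ d, ρ e]) R3) :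
    ∃ φ : SL25 →* G, Function.Injective φ ∧ φ gC = c ∧ φ gD = d ∧ φ gE = e := by
  set x := env [ρ c, ρ d, ρ e] with hx
  have sC : ∀ g, ρ c * (V g).eval x = (V (gC * g)).eval x := fun g => eq_of_check x R3 hR _ _ (stepC g)
  have sD : ∀ g, ρ d * (V g).eval x = (V (gD * g)).eval x := fun g => eq_of_check x R3 hR _ _ (stepD g)
  have sE : ∀ g, ρ e * (V g).eval x = (V (gE * g)).eval x := fun g => eq_of_check x R3 hR _ _ (stepE g)
  have s1 : (V 1).eval x = 1 := (eq_of_check x R3 hR _ _ V_one).trans Nat.cast_one
  have hex : ∀ g, ∃ y : G, ρ y = (V g).eval x := by
    have aux : ∀ (s : G) (g g' : SL25), ρ s * (V g).eval x = (V g').eval x →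
        (∃ y : G, ρ y = (V g').eval x) → ∃ y : G, ρ y = (V g).eval x := by
      rintro s g g' h ⟨y, hy⟩
      refine ⟨s⁻¹ * y, ?_⟩
      rw [map_mul, hy, ← h, ← mul_assoc, ← map_mul, inv_mul_cancel, map_one, one_mul]
    exact gen_induction ⟨1, by rw [map_one, s1]⟩ (fun g => aux c _ _ (sC g))
      (fun g => aux d _ _ (sD g)) (fun g => aux e _ _ (sE g))
  choose f hf using hex
  have f1 : f 1 = 1 := hinj (by rw [hf, s1, map_one])
  have fC : ∀ g, f (gC * g) = c * f g := fun g => hinj (by rw [hf, map_mul, hf, sC])
  have fD : ∀ g, f (gD * g) = d * f g := fun g => hinj (by rw [hf, map_mul, hf, sD])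
  have fE : ∀ g, f (gE * g) = e * f g := fun g => hinj (by rw [hf, map_mul, hf, sE])
  have fmul : ∀ g h, f (g * h) = f g * f h := by
    intro g h
    refine gen_induction (P := fun g => f (g * h) = f g * f h) (by simp [f1]) ?_ ?_ ?_ g
    · intro g hg
      rw [mul_assoc, fC, fC, mul_assoc] at hg
      exact mul_left_cancel hg
    · intro g hg
      rw [mul_assoc, fD, fD, mul_assoc] at hg
      exact mul_left_cancel hg
    · intro g hg
      rw [mul_assoc, fE, fE, mul_assoc] at hg
      exact mul_left_cancel hg
  let φ : SL25 →* G := MonoidHom.mk' f fmul
  have φC : φ gC = c := by simpa [f1, φ] using fC 1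
  have φD : φ gD = d := by simpa [f1, φ] using fD 1
  have φE : φ gE = e := by simpa [f1, φ] using fE 1
  refine ⟨φ, ?_, φC, φD, φE⟩
  rw [injective_iff_map_eq_one]
  intro g hg
  rcases ker_cert g with h | ⟨w, hw, k, -, hk⟩
  · exact h
  exfalso
  have hw1 : φ w = 1 := by
    simp only [List.mem_cons, List.not_mem_nil, or_false] at hw
    rcases hw with rfl | rfl | rfl | rfl <;> simp [hg]
  have h3 := congrArg φ hk
  rw [map_pow, hw1, one_pow, map_pow, map_mul, φC, φD] at h3
  have h4 : ρ c * ρ d * (ρ c * ρ d) = -((1 : ℕ) : A) := eq_of_check x R3 hR _ _ sq_CD
  rw [← map_mul, ← map_mul, ← pow_two, ← h3, map_one, Nat.cast_one] at h4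
  apply h2
  rw [← one_add_one_eq_two]
  exact add_eq_zero_iff_eq_neg.2 h4

theorem range_le {G : Type*} [Group G] (φ : SL25 →* G) (L : Subgroup G) (hC : φ gC ∈ L)
    (hD : φ gD ∈ L) (hE : φ gE ∈ L) : φ.range ≤ L := by
  rintro _ ⟨g, rfl⟩
  refine gen_induction (P := fun g => φ g ∈ L) (by simp) ?_ ?_ ?_ g
  · intro g hg
    rw [map_mul] at hg
    exact (mul_mem_cancel_left hC).1 hg
  · intro g hg
    rw [map_mul] at hg
    exact (mul_mem_cancel_left hD).1 hg
  · intro g hg
    rw [map_mul] at hg
    exact (mul_mem_cancel_left hE).1 hg

end Cfsg.Agent.H2.SL
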